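import Mathlib
import Cfsg.Agent.Lib.NSFT.Sol
import Cfsg.Agent.Lib.BG.AmbElt
import Cfsg.Agent.Lib.S4Free.Main
import Cfsg.Agent.Lib.ZJ.Thompson
import Cfsg.Agent.Lib.ZJ.QdInvolve

/-! NSFT/KW: the theorems of Glauberman and Stellmacher in a common form. -/

set_option autoImplicit false

namespace CfsgLib.NSFT

open Cfsg Subgroup CfsgLib.BG
open scoped commutatorElement MatrixGroups

variable {G : Type*} [Group G] [Finite G] {t u v : ℕ} {P X Y Z : Subgroup G}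

theorem Wt_le (t : ℕ) (P : Subgroup G) : Wt t P ≤ P := by
  unfold Wt
  split_ifs
  · exact (S4Free.pi_WIn P).le
  · rw [ZJ.centerThompsonAOf_eq]; exact ZJ.centerThompsonOf_le P

theorem Wt_ne_bot (ht : t.Prime) (hP : IsPiSubgroup {t} P) (h1 : P ≠ ⊥) : Wt t P ≠ ⊥ := by
  haveI := Fact.mk ht
  unfold Wt
  split_ifs with h
  · subst h; exact S4Free.WIn_ne_bot (pgp_isPGroup hP) h1
  · rw [ZJ.centerThompsonAOf_eq]; exact ZJ.centerThompsonOf_ne_bot (Or.inl rfl) (pgp_isPGroup hP) h1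

omit [Finite G] in
theorem map_Wt {G' : Type*} [Group G'] {f : G →* G'} (hf : Function.Injective f) (P : Subgroup G) :
    (Wt t P).map f = Wt t (P.map f) := by
  unfold Wt
  split_ifs
  · exact S4Free.map_WIn hf P
  · rw [ZJ.centerThompsonAOf_eq, ZJ.centerThompsonAOf_eq]; exact ZJ.map_centerThompsonOf hf P

theorem norm_Wt (t : ℕ) (P : Subgroup G) : 𝒩(P) ≤ 𝒩(Wt t P) := fun g hg => by
  have h1 : cj g P = P := mem_norm_iff.1 hg
  refine mem_norm_iff.2 ?_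
  rw [cj, map_Wt (MulAut.conj g).injective]
  exact congrArg _ h1

omit [Finite G] in
theorem Wt_eq_map (t : ℕ) (P : Subgroup G) : Wt t P = (Wt t (⊤ : Subgroup P)).map P.subtype := by
  rw [map_Wt P.subtype_injective, ← MonoidHom.range_eq_map, range_subtype]

theorem mim_Wt {G' : Type*} [Group G'] {D : Subgroup G} (f : D →* G') (h : P ≤ D) (hk : P ⊓ mker f = ⊥) :
    mim f (Wt t P) = Wt t (mim f P) := by
  rw [Wt_eq_map t P, ← map_mimHom f h, Wt_eq_map t (mim f P)]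
  congr 1
  have hi : Function.Injective (mimHom f h) := (mimEquiv f h hk).injective
  rw [map_Wt hi, map_top_of_surjective _ (mimHom_surjective f h)]

theorem CN.of_le (h : CN u v X) (hY : Y ≤ X) : CN u v Y :=
  fun x hx hu Q hQ hv hn => h x (hY hx) hu Q (hQ.trans hY) hv hn

omit [Finite G] in
theorem eq_one_of_piElt_ne {x : G} (huv : u ≠ v) (h1 : IsPiElt {u} x) (h2 : IsPiElt {v} x) : x = 1 := by
  rw [← orderOf_eq_one_iff, Nat.eq_one_iff_not_exists_prime_dvd]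
  exact fun p hp hd => huv ((h1 p hp hd).symm.trans (h2 p hp hd))

theorem CN.mim {G' : Type*} [Group G'] {D : Subgroup G} (f : D →* G') (hu : u.Prime) (hv : v.Prime) (huv : u ≠ v)
    (hX : X ≤ D) (h : CN u v X) : CN u v (BG.mim f X) := by
  intro x' hx' hxu Q' hQ' hQv hn
  obtain ⟨x, hx, rfl⟩ := (mem_mim_of_le f hX).1 hx'
  set Q0 := X ⊓ mpre f Q' with hQ0
  have hm : BG.mim f Q0 = Q' := by rw [hQ0, mim_inf_mpre, inf_eq_right.2 hQ']
  obtain ⟨S, hS⟩ := Sylow_exists hv Q0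
  have hSm : BG.mim f S = Q' := by
    have h1 := mim_pHall f (inf_le_left.trans hX) hS
    rw [← hQ0, hm] at h1
    exact pHall_id h1 hQv
  have hxn : x ∈ 𝒩(Q0) := by
    have h1 : zpowers x ≤ 𝒩(mpre f Q') := norm_mpre_of_mim_norm f (zpowers_le.2 (hX hx))
      (by rw [mim_zpowers f (hX hx)]; exact zpowers_le.2 hn)
    exact inf_normalizer_le_normalizer_inf ⟨le_normalizer hx, h1 (mem_zpowers x)⟩
  obtain ⟨a, ha, b, hb, e⟩ := Frattini_arg_mem (M := X ⊓ 𝒩(Q0)) hv inf_le_right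
    (le_inf inf_le_left le_normalizer) hS ⟨hx, hxn⟩
  have hbX : b ∈ X := hb.1.1
  have hz : piPart {u}ᶜ b ∈ Q0 := by
    rw [← mker_cosHom Q0]
    refine piPart_compl_mem_mker _ hb.1.2 ?_
    have e1 : cos Q0 b = cos Q0 x := by
      rw [e, cos, cos, pf_mul _ (le_normalizer ha) hb.1.2, show pf (cosHom Q0) a = 1 from cos_eq_one_of_mem ha, one_mul]
    have e2 : cos Q0 x ^ orderOf (pf f x) = 1 := by
      rw [cos, ← pf_pow _ hxn]
      refine cos_eq_one_of_mem ⟨pow_mem hx _, mker_le_mpre f _ ?_⟩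
      rw [← pf_eq_one_iff f (pow_mem (hX hx) _), pf_pow f (hX hx), pow_orderOf_eq_one]
    intro p hp hd
    rw [show pf (cosHom Q0) b = cos Q0 x from e1] at hd
    exact hxu p hp (hd.trans (orderOf_dvd_of_pow_eq_one e2))
  have hyX : piPart {u} b ∈ X := piPart_mem _ hbX
  have hy : piPart {u} b ∈ 𝒞(S) := h _ hyX (piElt_piPart _ b) S ((pHall_sub hS).trans inf_le_left)
    (pHall_pgroup hS) (piPart_mem _ hb.2)
  have hy' : pf f (piPart {u} b) ∈ 𝒞(Q') := by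
    rw [← hSm]; exact mim_centralizer_le f S (pf_mem_mim f hy)
  have hc : a * piPart {u}ᶜ b ∈ Q0 := mul_mem ha hz
  have hc' : pf f (a * piPart {u}ᶜ b) ∈ Q' := hm ▸ pf_mem_mim f hc
  have ex : pf f x = pf f (a * piPart {u}ᶜ b) * pf f (piPart {u} b) := by
    rw [← pf_mul f (hX hc.1) (hX hyX), mul_assoc, piPart_compl_mul, ← e]
  generalize pf f (a * piPart {u}ᶜ b) = c at hc' ex
  have hyu : IsPiElt {u} (pf f (piPart {u} b)) := pf_piElt f (piElt_piPart _ b)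
  generalize pf f (piPart {u} b) = y at hy' ex hyu
  have hcy : Commute c y := hy' c hc'
  have h1 : c = 1 := by
    refine eq_one_of_piElt_ne huv (fun p hp hd => ?_) (mem_p_elt hQv hc')
    have e3 : c = pf f x * y⁻¹ := by rw [ex, mul_inv_cancel_right]
    have hcm : Commute (pf f x) y⁻¹ := by
      rw [ex]; exact (hcy.mul_left (Commute.refl y)).inv_right
    rw [e3] at hd
    rcases (Nat.Prime.dvd_mul hp).1 (hd.trans hcm.orderOf_mul_dvd_mul_orderOf) with h2 | h2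
    · exact hxu p hp h2
    · exact hyu p hp (by rwa [orderOf_inv] at h2)
  rw [ex, h1, one_mul]
  exact hy'

omit [Finite G] in
theorem CN.comm_mem {N Q : Subgroup G} {x q : G} (hn : X ≤ 𝒩(N)) (h : CN u v (X ⧸⧸ N)) (hx : x ∈ X)
    (hxu : IsPiElt {u} x) (hQ : Q ≤ X) (hQv : IsPiSubgroup {v} Q) (hxQ : x ∈ 𝒩(Q)) (hq : q ∈ Q) [Finite G] :
    ⁅x, q⁆ ∈ N := by
  have h1 := h _ (pf_mem_mim _ hx) (pf_piElt _ hxu) _ (mim_mono _ hQ) (mim_pigroup _ hQv) (pf_mem_normalizer _ hxQ)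
    _ (pf_mem_mim _ hq)
  have h2 : ⁅x, q⁆ ∈ X := mul_mem (mul_mem (mul_mem hx (hQ hq)) (inv_mem hx)) (inv_mem (hQ hq))
  rw [← cos_eq_one_iff (hn h2), cos, pf_commutatorElement _ (hn hx) (hn (hQ hq)),
    commutatorElement_eq_one_iff_mul_comm]
  exact h1.symm

omit [Finite G] in
/-- `[Q, x, x] = 1` and coprime orders give `[Q, x] = 1` -/
theorem mem_cent_of_comm {Q : Subgroup G} {x : G} (huv : u ≠ v) (hxu : IsPiElt {u} x) (hQv : IsPiSubgroup {v} Q)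
    (hxQ : x ∈ 𝒩(Q)) (h : ∀ q ∈ Q, Commute x ⁅x, q⁆) : x ∈ 𝒞(Q) := by
  intro q hq
  have hz : ⁅x, q⁆ ∈ Q := mul_mem ((mem_normalizer_iff.1 hxQ q).1 hq) (inv_mem hq)
  have key : ∀ n : ℕ, x ^ n * q = ⁅x, q⁆ ^ n * q * x ^ n := fun n => ZJ.pow_mul_eq_of_commute_commutator (h q hq) n
  have h1 : ⁅x, q⁆ ^ orderOf x = 1 := by
    have := key (orderOf x)
    rw [pow_orderOf_eq_one, one_mul, mul_one] at this
    exact (mul_eq_right.1 this.symm)
  have h2 : ⁅x, q⁆ = 1 := eq_one_of_piElt_ne huv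
    (fun p hp hd => hxu p hp (hd.trans (orderOf_dvd_of_pow_eq_one h1))) (mem_p_elt hQv hz)
  exact (commutatorElement_eq_one_iff_mul_comm.1 h2).symm

theorem CN.sup (hu : u.Prime) (hv : v.Prime) (huv : u ≠ v) (hX : CN u v X) (hY : CN u v Y) (hc : Y ≤ 𝒞(X)) :
    CN u v (X ⊔ Y) := by
  intro x hx hxu Q hQ hQv hn
  have hc' : X ≤ 𝒞(Y) := le_centralizer_iff.1 hc
  have nX : X ⊔ Y ≤ 𝒩(X) := sup_le le_normalizer (hc.trans (centralizer_le_normalizer _))
  have nY : X ⊔ Y ≤ 𝒩(Y) := sup_le (hc'.trans (centralizer_le_normalizer _)) le_normalizer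
  have h1 : CN u v ((X ⊔ Y) ⧸⧸ Y) := by
    rw [quo_sup_right (le_sup_left.trans nY)]; exact hX.mim _ hu hv huv (le_sup_left.trans nY)
  have h2 : CN u v ((X ⊔ Y) ⧸⧸ X) := by
    rw [quo_sup_left (le_sup_right.trans nX)]; exact hY.mim _ hu hv huv (le_sup_right.trans nX)
  refine mem_cent_of_comm huv hxu hQv hn fun q hq => ?_
  have a1 := CN.comm_mem nY h1 hx hxu hQ hQv hn hq
  have a2 := CN.comm_mem nX h2 hx hxu hQ hQv hn hq
  have : X ⊔ Y ≤ 𝒞[⁅x, q⁆] := sup_le (fun g hg => mem_centralizer_singleton_iff.2 (hc a1 g hg))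
    (fun g hg => mem_centralizer_singleton_iff.2 (hc' a2 g hg))
  exact mem_centralizer_singleton_iff.1 (this hx)

theorem cn_of_nilpotent (huv : u ≠ v) (h : Group.IsNilpotent X) : CN u v X := fun x hx hxu _ hQ hQv _ =>
  sub_nilpotent_cent2 h (zpowers_le.2 hx) hQ (pgp_coprime_of_ne (pigroup_zpowers.2 hxu) hQv huv) (mem_zpowers x)

theorem CN.of_quo_cent (huv : u ≠ v) (hZ : Z ≤ 𝒞(X)) (hn : X ≤ 𝒩(Z)) (h : CN u v (X ⧸⧸ Z)) : CN u v X :=
  fun _ hx hxu _ hQ hQv hxQ => mem_cent_of_comm huv hxu hQv hxQ fun _ hq =>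
    hZ (CN.comm_mem hn h hx hxu hQ hQv hxQ hq) _ hx

theorem CN.of_quo_coprime (hZ : IsPiSubgroup {v}ᶜ Z) (hn : X ≤ 𝒩(Z)) (h : CN u v (X ⧸⧸ Z)) : CN u v X := by
  intro x hx hxu Q hQ hQv hxQ q hq
  have h1 := CN.comm_mem hn h hx hxu hQ hQv hxQ hq
  have hz : ⁅x, q⁆ ∈ Q := mul_mem ((mem_normalizer_iff.1 hxQ q).1 hq) (inv_mem hq)
  have h2 : ⁅x, q⁆ = 1 := by
    rw [← orderOf_eq_one_iff, Nat.eq_one_iff_not_exists_prime_dvd]
    exact fun p hp hd => mem_p_elt hZ h1 p hp hd (mem_p_elt hQv hz p hp hd)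
  exact (commutatorElement_eq_one_iff_mul_comm.1 h2).symm

theorem Tame.of_le (h : Tame t X) (hY : Y ≤ X) : Tame t Y :=
  h.imp (fun h => ⟨h.1, h.2.of_le hY⟩) fun h => ⟨h.1, h.2.of_le hY⟩

theorem Tame.mim {G' : Type*} [Group G'] {D : Subgroup G} (f : D →* G') (hX : X ≤ D) (h : Tame t X) :
    Tame t (BG.mim f X) :=
  h.imp (fun h => ⟨h.1, h.2.mim f Nat.prime_two Nat.prime_three (by decide) hX⟩)
    fun h => ⟨h.1, h.2.mim f Nat.prime_three Nat.prime_two (by decide) hX⟩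

theorem Tame.sup (hX : Tame t X) (hY : Tame t Y) (hc : Y ≤ 𝒞(X)) : Tame t (X ⊔ Y) := by
  rcases hX with ⟨h1, h2⟩ | ⟨h1, h2⟩ <;> rcases hY with ⟨h3, h4⟩ | ⟨h3, h4⟩
  · exact Or.inl ⟨h1, h2.sup Nat.prime_two Nat.prime_three (by decide) h4 hc⟩
  · exact absurd h1 h3
  · exact absurd h3 h1
  · exact Or.inr ⟨h1, h2.sup Nat.prime_three Nat.prime_two (by decide) h4 hc⟩

theorem tame_of_nilpotent (t : ℕ) (h : Group.IsNilpotent X) : Tame t X := by
  by_cases ht : t = 2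
  · exact Or.inl ⟨ht, cn_of_nilpotent (by decide) h⟩
  · exact Or.inr ⟨ht, cn_of_nilpotent (by decide) h⟩

theorem Tame.sSup {S : Set (Subgroup G)} (h : ∀ X ∈ S, Tame t X) (hc : ∀ X ∈ S, ∀ Y ∈ S, X ≠ Y → Y ≤ 𝒞(X)) :
    Tame t (sSup S) := by
  induction S, Set.toFinite S using Set.Finite.induction_on with
  | empty => rw [sSup_empty]; exact tame_of_nilpotent t inferInstance
  | @insert X S hX _ ih =>
    rw [sSup_insert]
    refine (h X (Set.mem_insert _ _)).sup (ih (fun Y hY => h Y (Set.mem_insert_of_mem _ hY))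
      fun Y hY Y' hY' => hc Y (Set.mem_insert_of_mem _ hY) Y' (Set.mem_insert_of_mem _ hY')) (sSup_le fun Y hY => ?_)
    exact hc X (Set.mem_insert _ _) Y (Set.mem_insert_of_mem _ hY) fun e => hX (e ▸ hY)

/-- central extensions -/
theorem Tame.of_quo (hZ : Z ≤ 𝒞(X)) (hn : X ≤ 𝒩(Z)) (h : Tame t (X ⧸⧸ Z)) : Tame t X :=
  h.imp (fun h => ⟨h.1, h.2.of_quo_cent (by decide) hZ hn⟩) fun h => ⟨h.1, h.2.of_quo_cent (by decide) hZ hn⟩

theorem CN.sec {H : Type*} [Group H] (hu : u.Prime) (hv : v.Prime) (huv : u ≠ v) (h : CN u v X)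
    (hs : CFun.Sec H X) : CN u v (⊤ : Subgroup H) := by
  obtain ⟨K, f, hf⟩ := hs
  let e := K.equivMapOfInjective X.subtype X.subtype_injective
  have := (h.of_le (map_subtype_le K)).mim (f.comp e.symm.toMonoidHom) hu hv huv le_rfl
  have hs : Function.Surjective (f.comp e.symm.toMonoidHom) := hf.comp e.symm.surjective
  rwa [mim_dom, MonoidHom.range_eq_top.2 hs] at this

theorem piElt_of_pow {x : G} {n : ℕ} (hu : u.Prime) (h : x ^ u ^ n = 1) : IsPiElt {u} x := fun _ hp hd =>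
  (Nat.prime_dvd_prime_iff_eq hp hu).1 (hp.dvd_of_dvd_pow (hd.trans (orderOf_dvd_of_pow_eq_one h)))

theorem not_cn_S3 : ¬ CN 2 3 (⊤ : Subgroup (Equiv.Perm (Fin 3))) := by
  intro h
  have h1 := h (Equiv.swap 0 1) trivial (piElt_of_pow (n := 1) Nat.prime_two (by decide))
    (zpowers (Equiv.swap 0 1 * Equiv.swap 1 2)) le_top
    (pigroup_zpowers.2 (piElt_of_pow (n := 1) Nat.prime_three (by decide)))
    (mem_norm_of_cj_le (by
      rw [cj, MonoidHom.map_zpowers, zpowers_le, ← inv_mem_iff]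
      have : ((MulAut.conj (Equiv.swap (0 : Fin 3) 1)).toMonoidHom (Equiv.swap 0 1 * Equiv.swap 1 2))⁻¹ =
        Equiv.swap 0 1 * Equiv.swap 1 2 := by decide
      rw [this]
      exact mem_zpowers _)) _ (mem_zpowers _)
  exact absurd h1 (by decide)

theorem exists_q8 {F : Type*} [Field F] (h2 : (2 : F) ≠ 0) {a b : F} (hab : a ^ 2 + b ^ 2 = -1) :
    ∃ i j w : SL(2, F), i * i * i * i = 1 ∧ j * j * j * j = 1 ∧ i * (j * i) = j ∧ w * w * w = 1 ∧ w * i = j * w ∧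
      w * j = i * j * w ∧ i ≠ j := by
  obtain ⟨h, hh⟩ : ∃ h : F, 2 * h = 1 := ⟨2⁻¹, mul_inv_cancel₀ h2⟩
  obtain ⟨i, hi⟩ : ∃ i : SL(2, F), i.1 = !![0, 1; -1, 0] := ⟨⟨_, by simp [Matrix.det_fin_two]⟩, rfl⟩
  obtain ⟨j, hj⟩ : ∃ j : SL(2, F), j.1 = !![a, b; b, -a] :=
    ⟨⟨_, by rw [Matrix.det_fin_two_of]; linear_combination -hab⟩, rfl⟩
  obtain ⟨w, hw⟩ : ∃ w : SL(2, F), w.1 = !![-h * (1 + a + b), -h * (1 + b - a); -h * (b - a - 1), -h * (1 - a - b)] :=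
    ⟨⟨_, by rw [Matrix.det_fin_two_of]; grind⟩, rfl⟩
  refine ⟨i, j, w, ?_, ?_, ?_, ?_, ?_, ?_, fun e => ?_⟩
  rotate_right
  · have h1 := congrArg (fun m : SL(2, F) => m.1 0 1) e
    have h3 := congrArg (fun m : SL(2, F) => m.1 1 0) e
    simp [hi, hj] at h1 h3
    grind
  all_goals
    apply Subtype.ext
    simp only [Matrix.SpecialLinearGroup.coe_mul, Matrix.SpecialLinearGroup.coe_one, hi, hj, hw, Matrix.mul_fin_two,
      Matrix.one_fin_two]
    congr 1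
    ext r c
    fin_cases r <;> fin_cases c <;> simp only [Fin.zero_eta, Fin.mk_one, Matrix.cons_val_zero, Matrix.cons_val_one] <;> grind

theorem not_cn_SL2 [Fact t.Prime] (h2 : t ≠ 2) : ¬ CN 3 2 (⊤ : Subgroup SL(2, ZMod t)) := by
  intro h
  obtain ⟨a, b, hab⟩ := ZMod.sq_add_sq t (-1)
  obtain ⟨i, j, w, hi, hj, hij, hw, hwi, hwj, hne⟩ := exists_q8 (ZJ.two_ne_zero_of_charP h2 (ZMod t)) hab
  have e4 : ∀ x : SL(2, ZMod t), x * x * x * x = 1 → IsPiSubgroup {2} (zpowers x) := fun x hx =>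
    pigroup_zpowers.2 (piElt_of_pow (n := 2) Nat.prime_two (by
      rw [← hx, show 2 ^ 2 = 4 from rfl]; simp only [pow_succ, pow_zero, one_mul]))
  have hn : zpowers j ≤ 𝒩(zpowers i) := zpowers_le.2 (mem_norm_of_cj_le (by
    rw [cj, MonoidHom.map_zpowers, zpowers_le]
    have : (MulAut.conj j).toMonoidHom i = i⁻¹ := by
      change j * i * j⁻¹ = i⁻¹
      rw [mul_inv_eq_iff_eq_mul, eq_inv_mul_iff_mul_eq, hij]
    rw [this]
    exact inv_mem (mem_zpowers _)))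
  have mi : i ∈ zpowers i ⊔ zpowers j := mem_sup_left (mem_zpowers i)
  have mj : j ∈ zpowers i ⊔ zpowers j := mem_sup_right (mem_zpowers j)
  have h1 := h w trivial (piElt_of_pow (n := 1) Nat.prime_three (by rw [← hw]; simp only [pow_succ, pow_zero, one_mul]))
    (zpowers i ⊔ zpowers j) le_top
    ((pigroup_singleton Nat.prime_two).2 ((pgp_isPGroup (e4 i hi)).to_sup_of_normal_left' (pgp_isPGroup (e4 j hj)) hn))
    (mem_norm_of_cj_le (by
      rw [cj, Subgroup.map_sup, MonoidHom.map_zpowers, MonoidHom.map_zpowers, sup_le_iff, zpowers_le, zpowers_le]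
      constructor
      · change w * i * w⁻¹ ∈ _
        rwa [hwi, mul_inv_cancel_right]
      · change w * j * w⁻¹ ∈ _
        rw [hwj, mul_inv_cancel_right]
        exact mul_mem mi mj)) i mi
  exact hne (mul_right_cancel (h1.trans hwi))

theorem Wt_normal_of_tame (ht : t.Prime) (hP : IsSylowOf t P X) (hc : X ⊓ 𝒞(opOf t X) ≤ opOf t X) (h : Tame t X) :
    X ≤ 𝒩(Wt t P) := by
  haveI := Fact.mk ht
  obtain ⟨S, rfl⟩ := exists_sylow_map ht hP
  have hc' : centralizer (pCore t X : Set X) ≤ pCore t X := fun x hx => by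
    rw [← opOf_subgroupOf ht]
    refine hc ⟨x.2, ?_⟩
    rw [opOf_eq_map ht]
    rintro _ ⟨y, hy, rfl⟩
    exact congrArg Subtype.val (hx y hy)
  have hn : (Wt t (S : Subgroup X)).Normal := by
    rcases h with ⟨rfl, h⟩ | ⟨h2, h⟩
    · rw [Wt, if_pos rfl]
      exact S4Free.normal_WIn (fun hs => not_cn_S3 (h.sec Nat.prime_two Nat.prime_three (by decide) hs)) hc'
        (LAE.isSylowIn_top S)
    · rw [Wt, if_neg h2]
      exact ZJ.centerThompsonAOf_normal h2 (ZJ.quadStable_of_not_involves_qd h2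
        (ZJ.not_involves_qd_of_not_involves_SL2 fun hs => not_cn_SL2 h2
          (h.sec Nat.prime_three Nat.prime_two (by decide) (CFun.sec_iff_involves.2 hs)))) hc' S
        (ZJ.isStronglyClosed_self _)
  rw [← map_Wt X.subtype_injective]
  exact (normal_subgroupOf_iff_le_normalizer (map_subtype_le _)).1
    (by rwa [subgroupOf, comap_map_eq_self_of_injective X.subtype_injective])

theorem Wt_normal (ht : t.Prime) (hP : IsSylowOf t P X) (hc : X ⊓ 𝒞(opOf t X) ≤ opOf t X)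
    (h : Tame t (X ⧸⧸ opOf t X)) : X ≤ 𝒩(Wt t P) := by
  refine Wt_normal_of_tame ht hP hc (h.imp (fun h => ⟨h.1, h.2.of_quo_coprime ?_ (pcore_norm _ X)⟩)
    fun h => ⟨h.1, h.2.of_quo_coprime ?_ (pcore_norm _ X)⟩)
  · exact pgp_p'group (pcore_pgroup _ X) (by rw [h.1]; decide)
  · exact pgp_p'group (pcore_pgroup _ X) h.1

theorem CN.of_quo_sup {A : Subgroup G} (huv : u ≠ v) (hA : IsPiSubgroup {t} A) (hv : v ≠ t) (hAX : A ⊲ X) (hZ : Z ≤ 𝒞(X))
    (hZt : IsPiSubgroup {t}ᶜ Z) (hn : X ≤ 𝒩(Z)) (h : CN u v (X ⧸⧸ (A ⊔ Z))) : CN u v X := by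
  intro x hx hxu Q hQ hQv hxQ
  refine mem_cent_of_comm huv hxu hQv hxQ fun q hq => ?_
  have h1 := CN.comm_mem (normsY hAX.2 hn) h hx hxu hQ hQv hxQ hq
  have hz : ⁅x, q⁆ ∈ Q := mul_mem ((mem_normalizer_iff.1 hxQ q).1 hq) (inv_mem hq)
  obtain ⟨a, ha, z, hz', e⟩ := (mem_sup_norm_r (hAX.1.trans hn)).1 h1
  have h2 : a = 1 := by
    rw [← piPart_mul_of_commute (hZ hz' a (hAX.1 ha)) (mem_p_elt hA ha) (mem_p_elt hZt hz'), e]
    exact piPart_eq_one (mem_p_elt (pgp_p'group hQv hv) hz)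
  rw [← e, h2, one_mul]
  exact hZ hz' x hx

/-- the same modulo a central `t'`-subgroup -/
theorem Wt_normal' (ht : t.Prime) (hP : IsSylowOf t P X) (hZ : Z ≤ X ⊓ 𝒞(X)) (hZt : IsPiSubgroup {t}ᶜ Z)
    (hc : X ⊓ 𝒞(opOf t X) ≤ opOf t X ⊔ Z) (h : Tame t (X ⧸⧸ (opOf t X ⊔ Z))) : X ≤ 𝒩(Wt t P) := by
  have hZc : Z ≤ 𝒞(X) := hZ.trans inf_le_right
  have hn : X ≤ 𝒩(Z) := (le_centralizer_iff.1 hZc).trans (centralizer_le_normalizer _)
  have hX : Tame t X := h.imp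
    (fun h => ⟨h.1, h.2.of_quo_sup (by decide) (pcore_pgroup _ X) (by rw [h.1]; decide) (pcore_normal _ X) hZc hZt hn⟩)
    fun h => ⟨h.1, h.2.of_quo_sup (by decide) (pcore_pgroup _ X) h.1.symm (pcore_normal _ X) hZc hZt hn⟩
  have hPX := pHall_sub hP
  have hO : opOf t X ⧸⧸ Z ≤ opOf t (X ⧸⧸ Z) :=
    pcore_max (mim_normalIn _ (pcore_normal _ X)) (mim_pigroup _ (pcore_pgroup _ X))
  have h1 := Wt_normal_of_tame ht (mim_pHall (cosHom Z) hn hP) (fun y hy => ?_) (hX.mim _ hn)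
  · rw [← mim_Wt _ (hPX.trans hn) (by rw [mker_cosHom]; exact pigroup_TI (pHall_pgroup hP) hZt)] at h1
    have hW : Wt t P ≤ X := (Wt_le t P).trans hPX
    have hWt : IsPiSubgroup {t} (Wt t P) := pigroupS (Wt_le t P) (pHall_pgroup hP)
    have h2 := norm_sup_of_quo_norm hn (hW.trans hn) h1
    refine le_norm_of_cj_le fun g hg => ?_
    rintro _ ⟨w, hw, rfl⟩
    change g * w * g⁻¹ ∈ _
    obtain ⟨a, ha, z, hz, e⟩ := (mem_sup_norm_r (hW.trans hn)).1 ((mem_normalizer_iff.1 (h2 hg) w).1 (mem_sup_left hw))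
    rw [← piPart_of_piElt (mem_p_elt hWt hw), ← piPart_conj, ← e,
      piPart_mul_of_commute (hZc hz a (hW ha)) (mem_p_elt hWt ha) (mem_p_elt hZt hz)]
    exact ha
  · obtain ⟨x, hx, rfl⟩ := (mem_mim_of_le _ hn).1 hy.1
    have h2 : zpowers x ⧸⧸ Z ≤ 𝒞(opOf t X ⧸⧸ Z) := by
      rw [quo, mim_zpowers _ (hn hx), zpowers_le]
      exact centralizer_le hO hy.2
    rw [quo_cent_iff ((zpowers_le.2 hx).trans hn) ((pcore_sub _ X).trans hn)] at h2
    have h3 : ⁅zpowers x, opOf t X⁆ ≤ opOf t X := commg_subr.2 ((zpowers_le.2 hx).trans (pcore_norm _ X))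
    have h4 : zpowers x ≤ 𝒞(opOf t X) := commutator_eq_bot_iff_le_centralizer.1
      (le_bot_iff.1 ((le_inf h3 h2).trans (pigroup_TI (pcore_pgroup _ X) hZt).le))
    refine hO ?_
    rw [← quo_sup_right ((pcore_sub _ X).trans hn)]
    exact pf_mem_mim _ (hc ⟨hx, h4 (mem_zpowers x)⟩)

end CfsgLib.NSFT
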