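import Mathlib
import Cfsg.Agent.Lib.NSFT.Main
import Cfsg.Agent.Lib.NSFT.Id
import Cfsg.Agent.Lib.KRow.SporOut

/-! Signalizer functors whose values have an `A`-simple layer. -/

set_option autoImplicit false
set_option linter.unusedSectionVars false

namespace CfsgLib.NSFT

open Cfsg Subgroup CfsgLib.BG CfsgLib.Signal CfsgLib.PComp
open CfsgLib.SSFT (Line ncl)
open scoped commutatorElement

variable {G : Type*} [Group G] [Finite G] {p : ℕ} {A J K P T X : Subgroup G} {θ L : G → Subgroup G}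

theorem NS.schreier (h : NS J) (hK : IsKGroup J) (hP : ⁅P, P⁆ = P) (hn : P ≤ 𝒩(J)) : P ≤ J ⊔ 𝒞(J) := by
  have := h.simple
  have hs : Group.IsSolvable (Out J) :=
    (KRow.od_known KRow.sporOut (KGroup.IsKGroup.isKnownSimple hK inferInstance h.nonab) h.nonab).solvable
  let φ : 𝒩(J) →* Out J := (QuotientGroup.mk' (Inn J)).comp J.normalizerMonoidHom
  intro x hx
  have h1 := (mim_eq_bot_iff φ hn).1 (eq_bot_of_perfect (mim_perfect φ hn hP) inferInstance) hx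
  rw [← pf_eq_one_iff φ (hn hx), pf_of_mem φ (hn hx)] at h1
  obtain ⟨j, e⟩ := (QuotientGroup.eq_one_iff _).1 h1
  have : (j : G)⁻¹ * x ∈ 𝒞(J) := mem_cent_iff.2 fun y hy => by
    have e1 : (j : G) * y * (j : G)⁻¹ = x * y * x⁻¹ := by
      have := congrArg Subtype.val (DFunLike.congr_fun e (⟨y, hy⟩ : J))
      simpa using this
    calc y * ((j : G)⁻¹ * x) = (j : G)⁻¹ * (j * y * (j : G)⁻¹) * x := by group
      _ = _ := by rw [e1]; group
  simpa using mul_mem (mem_sup_left j.2) (mem_sup_right this)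

theorem sim_sol_eq_bot (h0 : solOf K = ⊥) (hT : K ⊲ T) (hc : T ⊓ 𝒞(K) = ⊥) : solOf T = ⊥ :=
  le_bot_iff.1 ((le_inf (solOf_le T) (cents_of_norm_of_disjoint ((solOf_le T).trans hT.norm)
    (hT.le.trans (solOf_normal T).norm) ((solOf_of_normal hT).symm.trans h0))).trans hc.le)

theorem ASim.isKGroup (h : ASim A K) (hp : p.Prime) (hA : IsElementaryAbelian p A) (h0 : solOf K = ⊥)
    (hK : IsKGroup K) (hT : K ⊲ T) (h1 : IsPiSubgroup {p}ᶜ T) (h2 : A ≤ 𝒩(T)) (hc : T ⊓ 𝒞(K) = ⊥) :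
    IsKGroup T := by
  have hT0 := sim_sol_eq_bot h0 hT hc
  have hAC := h.ac.of_subn (subnIn_of_normal hT)
  have k : ∀ J, AC ⊥ T J → J ≤ K := fun J hJ => (hAC.le_or_of_le h2 bot_le hJ).resolve_right fun e =>
    hJ.ne (le_bot_iff.1 ((le_inf hJ.le (commG1.1 (le_bot_iff.1 (hT0 ▸ e)))).trans hc.le))
  have hr : resOf T ≤ K := (le_of_prj hT0 (W := id) (resOf_le T) fun J hJ => ⟨le_rfl,
    (hJ.ns hT0).schreier (isKGroup_of_le hK (k J hJ)) (resOf_perfect T) ((resOf_le T).trans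
      (h.norm_comp hp (abelem_pgroup hp hA) h1 hT.norm h2 (hJ.of_le (k J hJ) hT.le)))⟩).trans
    (sSup_le fun _ ⟨J, hJ, e⟩ => e ▸ k J hJ)
  refine isKGroup_of_quo hT.norm (isKGroup_of_le hK inf_le_right) (isKGroup_of_solvable (resOf_eq_bot_iff.1 ?_))
  rw [← mim_resOf _ hT.norm]
  exact quo_eq_bot_of_le hr

/-- the hypothesis of the identification theorem in arbitrary rank -/
structure IDG (p : ℕ) (A : Subgroup G) (θ K : G → Subgroup G) : Prop extends GSF p A θ where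
  card : p ^ 3 ≤ Nat.card A
  nrm : ∀ a ∈ A, a ≠ 1 → K a ⊲ θ a
  sim : ∀ a ∈ A, a ≠ 1 → K a ≠ ⊥ → ASim A (K a)
  sol : ∀ a ∈ A, a ≠ 1 → solOf (K a) = ⊥
  kg : ∀ a ∈ A, a ≠ 1 → IsKGroup (K a)
  cen : ∀ a ∈ A, a ≠ 1 → K a ≠ ⊥ → θ a ⊓ 𝒞(K a) = ⊥
  ker : ∀ a ∈ A, a ≠ 1 → K a ≠ ⊥ → A ⊓ 𝒞(K a) = zpowers a
  kbal : ∀ a ∈ A, a ≠ 1 → ∀ b ∈ A, b ≠ 1 → resOf (K a ⊓ 𝒞[b]) ≤ K b
  ne : signalizerClosure A K ≠ ⊥

theorem IDG.act (h : IDG p A θ L) {a : G} (ha : a ∈ A) (h1 : a ≠ 1) (hL : L a ≠ ⊥) : Act p A (L a) :=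
  ⟨h.prime, h.abelem, (h.sim a ha h1 hL).norm, pigroupS (h.nrm a ha h1).le (h.p'grp a ha h1), h.kg a ha h1⟩

theorem IDG.stab_card (h : IDG p A θ L) {a : G} (ha : a ∈ A) (h1 : a ≠ 1) (hL : L a ≠ ⊥) :
    a ∈ stab A (L a) ∧ Nat.card (stab A (L a)) ∣ p ^ 2 := by
  have k1 := (h.act ha h1 hL).cent_le_stab (h.sol a ha h1) (h.sim a ha h1 hL).ac
  have k2 := (h.act ha h1 hL).relIndex_stab (h.sol a ha h1) (h.sim a ha h1 hL).ac
  rw [h.ker a ha h1 hL] at k1 k2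
  refine ⟨k1 (mem_zpowers a), ?_⟩
  rw [← Lagrange k1, Nat.card_zpowers, abelem_order_p h.prime h.abelem ha h1, sq]
  exact mul_dvd_mul_left p k2

theorem IDG.ne_bot (h : IDG p A θ L) {a b : G} (ha : a ∈ A) (h1 : a ≠ 1) (hL : L a ≠ ⊥) (hb : b ∈ A)
    (hn : b ∉ stab A (L a)) : L b ≠ ⊥ := fun e => by
  have := (h.act ha h1 hL).nf_not_solvable (h.sim a ha h1 hL).ac (zpowers_le.2 hb)
    ((h.act ha h1 hL).nf_of_not_stab (h.sim a ha h1 hL).ac hb hn)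
  rw [cent_zpowers] at this
  exact this (resOf_eq_bot_iff.1 (le_bot_iff.1 (e ▸ h.kbal a ha h1 b hb fun e' => hn (e' ▸ one_mem _))))

theorem IDG.exists_f (h : IDG p A θ L) : ∃ f ∈ A, ∀ a ∈ A, a ∉ zpowers f → L a ≠ ⊥ := by
  obtain ⟨a, ha, h1, hL⟩ : ∃ a ∈ A, a ≠ 1 ∧ L a ≠ ⊥ := by
    by_contra! hn
    exact h.ne (le_bot_iff.1 (closure_le' fun a ha h1 => (hn a ha h1).le))
  obtain ⟨b, hb, hn⟩ : ∃ b ∈ A, b ∉ stab A (L a) := by
    by_contra! hn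
    exact (sq_lt_of_cube_le h.prime h.card).not_ge ((BG.card_le_of_le hn).trans
      (Nat.le_of_dvd (pow_pos h.prime.pos 2) (h.stab_card ha h1 hL).2))
  have b1 : b ≠ 1 := fun e => hn (e ▸ one_mem _)
  have hLb := h.ne_bot ha h1 hL hb hn
  obtain ⟨k1, k2⟩ := h.stab_card hb b1 hLb
  have hd : Nat.card ↥(stab A (L a) ⊓ stab A (L b)) ∣ p := by
    obtain ⟨i, hi, e⟩ := (Nat.dvd_prime_pow h.prime).1 ((cardSg (inf_le_right (a := stab A (L a)))).trans k2)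
    have := (proper_card (inf_le_right.lt_of_ne fun e' => hn (e'.ge k1).1 :
      stab A (L a) ⊓ stab A (L b) < stab A (L b))).trans_le (Nat.le_of_dvd (pow_pos h.prime.pos 2) k2)
    rw [e] at this ⊢
    simpa using pow_dvd_pow p (Nat.lt_succ_iff.1 ((Nat.pow_lt_pow_iff_right h.prime.one_lt).1 this))
  haveI := Fact.mk h.prime
  obtain ⟨f, hf⟩ := cyclic_iff_zpowers.1 (isCyclic_of_card_dvd_prime hd)
  refine ⟨f, stab_le _ _ (hf.ge (mem_zpowers f)).1, fun c hc hcf => ?_⟩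
  by_cases h2 : c ∈ stab A (L a)
  · exact h.ne_bot hb b1 hLb hc fun e => hcf (hf.le ⟨h2, e⟩)
  · exact h.ne_bot ha h1 hL hc h2

theorem IDG.exists_compl (h : IDG p A θ L) {n : ℕ} (hn : p ^ (n + 1) ≤ Nat.card A) :
    ∃ B ≤ A, p ^ n ≤ Nat.card B ∧ ∀ b ∈ B, b ≠ 1 → L b ≠ ⊥ := by
  obtain ⟨f, hf, k⟩ := h.exists_f
  obtain ⟨B, hB⟩ := abelem_splits h.prime h.abelem (zpowers_le.2 hf)
  refine ⟨B, hB.le_right, ?_, fun b hb h1 => k b (hB.le_right hb) fun e => h1 (mem_bot.1 (hB.TI.le ⟨e, hb⟩))⟩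
  rw [← hB.card, pow_succ', Nat.card_zpowers] at hn
  exact Nat.le_of_mul_le_mul_left (hn.trans (Nat.mul_le_mul_right _ (Nat.le_of_dvd h.prime.pos
    (orderOf_dvd_of_pow_eq_one (abelem_exp h.abelem hf))))) h.prime.pos

theorem IDG.kg_theta (h : IDG p A θ L) (h4 : p ^ 4 ≤ Nat.card A) : ∀ a ∈ A, a ≠ 1 → IsKGroup (θ a) := fun a ha h1 => by
  obtain ⟨B, hB, hc, k⟩ := h.exists_compl h4
  have h' := (h.restrict (h.norm a ha h1)).sub hB
  refine isKGroup_of_le (complete h' hc fun b hb b1 => isKGroup_of_le ?_ inf_le_left).kg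
    ((((h.fam ha h1).restrict le_rfl).of_le hB).le_closure h' le_rfl
      (lt_of_sq_le h.prime (sq_lt_of_cube_le h.prime hc).le))
  exact (h.sim b (hB hb) b1 (k b hb b1)).isKGroup h.prime h.abelem (h.sol b (hB hb) b1) (h.kg b (hB hb) b1)
    (h.nrm b (hB hb) b1) (h.p'grp b (hB hb) b1) (h.norm b (hB hb) b1) (h.cen b (hB hb) b1 (k b hb b1))

theorem IDG.sim_of_kf (h : IDG p A θ L) (hX : KF p A θ X) (h1 : ∀ a ∈ A, a ≠ 1 → θ a ≤ X) :
    solOf X = ⊥ ∧ ∀ K, AC A X K → signalizerClosure A L ≤ K := by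
  have hA : Act p A X := ⟨h.prime, h.abelem, hX.norm, hX.p'grp, hX.kg⟩
  have e : ∀ b ∈ A, b ≠ 1 → X ⊓ 𝒞[b] = θ b := fun b hb b1 =>
    le_antisymm (hX.le b hb b1) (le_inf (h1 b hb b1) (h.le_cent b hb b1))
  have s : ∀ b ∈ A, b ≠ 1 → L b ≠ ⊥ → solOf (θ b) = ⊥ := fun b hb b1 hL =>
    sim_sol_eq_bot (h.sol b hb b1) (h.nrm b hb b1) (h.cen b hb b1 hL)
  have h0 : solOf X = ⊥ := by
    obtain ⟨B, hB, hc, k⟩ := h.exists_compl h.card
    refine le_bot_iff.1 (le_of_cent1 h.prime (abelemS hB h.abelem) (lt_of_sq_le h.prime hc)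
      (pigroupS (solOf_le X) hX.p'grp) (hB.trans hA.norm_sol) fun b hb b1 => ?_)
    rw [← s b (hB hb) b1 (k b hb b1), ← e b (hB hb) b1]
    exact (le_inf inf_le_left (inf_le_inf_right _ (solOf_le X))).trans (solOf_inf_le inf_le_left)
  refine ⟨h0, fun K hK => closure_le' fun b hb b1 => ?_⟩
  by_cases hL : L b = ⊥
  · exact hL.le.trans bot_le
  have hs : ¬ Group.IsSolvable ↥(K ⊓ 𝒞[b]) := fun hs => hA.fix_not_le hK
    ((inf_le_inf_left _ (cent_le_cent1 hb)).trans ((le_solOf_of_subnIn (hK.sub.inf_right _) hs).trans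
      ((e b hb b1 ▸ s b hb b1 hL :).le.trans bot_le)))
  have hI := hA.ac_res1 hK hb hs
  rw [e b hb b1] at hI
  rcases hI.eq_or ((h.sim b hb b1 hL).ac.of_subn (subnIn_of_normal (h.nrm b hb b1))) with e' | e'
  · exact e'.ge.trans ((resOf_le _).trans inf_le_left)
  · exact (hI.ne (le_bot_iff.1 ((le_inf hI.le (commG1.1 (le_bot_iff.1 (s b hb b1 hL ▸ e')))).trans
      (h.cen b hb b1 hL).le))).elim

theorem IDG.main (h : IDG p A θ L) (hle : ∀ a ∈ A, a ≠ 1 → θ a ≤ signalizerClosure A L) :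
    KF p A θ (signalizerClosure A L) ∧ solOf (signalizerClosure A L) = ⊥ ∧ ASim A (signalizerClosure A L) := by
  obtain ⟨k, hk⟩ := pgp_card h.prime h.pgp
  by_cases h3 : Nat.card A = p ^ 3
  · obtain ⟨k1, k2, k3⟩ := IDH.main ⟨h.toGSF, h3, h.nrm, h.sim, h.sol, h.kg, h.cen, h.kbal⟩
    exact ⟨k1, k2, k3 h.ne⟩
  have h4 : p ^ 4 ≤ Nat.card A := by
    have := lt_of_le_of_ne h.card (Ne.symm h3)
    rw [hk] at this ⊢
    exact Nat.pow_le_pow_right h.prime.pos ((Nat.pow_lt_pow_iff_right h.prime.one_lt).1 this)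
  have hX := complete h.toGSF h.card (h.kg_theta h4)
  rw [show signalizerClosure A θ = signalizerClosure A L from le_antisymm (closure_le' hle)
    (closure_le' fun a ha h1 => (h.nrm a ha h1).le.trans (le_closure' ha h1))] at hX
  obtain ⟨h0, k⟩ := h.sim_of_kf hX hle
  obtain ⟨K, hK⟩ := exists_ac hX.norm fun hs => h.ne ((solOf_eq_self hs).symm.trans h0)
  exact ⟨hX, h0, le_antisymm hK.le (k K hK) ▸ hK.toASim⟩

/-- the residual of a fixed point group lies in its layer -/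
theorem ASim.res_le_layerOf (h : ASim A K) (hK : Act p A K) (h0 : solOf K = ⊥) {b : G} (hb : b ∈ A) :
    resOf (K ⊓ 𝒞[b]) ≤ Comp.layerOf (K ⊓ 𝒞[b]) := by
  by_cases hs : Group.IsSolvable ↥(K ⊓ 𝒞[b])
  · exact (resOf_eq_bot_iff.2 hs).le.trans bot_le
  have hI := hK.ac_res1 h.ac hb hs
  have hI0 := le_bot_iff.1 (h0 ▸ hK.sol_res1 h.ac hb)
  refine hI.toASim.bot_eq.ge.trans (sSup_le fun J hJ => ?_)
  have hJ' := hJ.of_subn hI.sub
  exact Comp.le_map_layer_subtype hJ'.le ⟨hJ'.sub.2, (Comp.qs_subgroupOf_iff hJ'.le).2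
    ((Comp.qs_subgroupOf_iff hJ.le).1 ((ac_iff_comp hI0).1 hJ).2.2)⟩

end CfsgLib.NSFT
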